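import Mathlib
import Cfsg.Agent.H548.CV.Eig
import Cfsg.Agent.H376.SpEmb

/-!
# S3442: numbers which are not element orders of `PSp_2n(q)`: two eigenvalues (helper365)
-/

set_option autoImplicit false

namespace Cfsg.Agent.H365.CV

open Matrix Polynomial Cfsg.Agent.H548.CV

section Two

variable {F : Type*} [Field F] [Fintype F] {Ω : Type*} [Field Ω] [Algebra F Ω]

/-- the factor of `P` with the roots conjugate to `a` or `a⁻¹` -/
theorem exists_factor {a : Ω} (ha : IsIntegral F a) (ha0 : a ≠ 0) (ha2 : a ^ 2 ≠ 1) {P : F[X]} (hP : P ≠ 0) {m : ℕ}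
    (hd : P.natDegree = 2 * m) (h1 : aeval a P = 0) (h2 : aeval a⁻¹ P = 0) :
    ∃ (M : F[X]) (e : ℕ), M ∣ P ∧ M.natDegree = 2 * e ∧ 1 ≤ e ∧ e ≤ m ∧
      ((M = minpoly F a ∧ a ^ (Fintype.card F ^ e + 1) = 1) ∨
        (M = minpoly F a * minpoly F a⁻¹ ∧ a ^ (Fintype.card F ^ e - 1) = 1)) := by
  have hpos : 0 < (minpoly F a).natDegree := minpoly.natDegree_pos ha
  have hq : 0 < Fintype.card F := Fintype.card_pos
  by_cases hf : minpoly F a⁻¹ = minpoly F a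
  · -- the inverse is a conjugate
    obtain ⟨i, hi, hia⟩ := conj_pow ha (by rw [← hf]; exact minpoly.aeval _ _) (inv_mem_adj (F := F) (a := a))
    have h3 : a ^ (Fintype.card F ^ (2 * i)) = a := by
      have h4 : a ^ (Fintype.card F ^ (2 * i)) = (a ^ (Fintype.card F ^ i)) ^ (Fintype.card F ^ i) := by
        rw [← pow_mul, ← pow_add, two_mul]
      rw [h4, ← hia, inv_pow, ← hia, inv_inv]
    have h5 := dvd_of_pow ha h3
    have h6 : i ≠ 0 := by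
      rintro rfl
      rw [pow_zero, pow_one] at hia
      apply ha2
      rw [pow_two]
      nth_rw 1 [← hia]
      exact inv_mul_cancel₀ ha0
    have h7 : 2 * i = (minpoly F a).natDegree := by
      obtain ⟨c, hc⟩ := h5
      have hc1 : c < 2 := by
        by_contra hcon
        push Not at hcon
        have : (minpoly F a).natDegree * 2 ≤ (minpoly F a).natDegree * c := Nat.mul_le_mul_left _ hcon
        omega
      have hc0 : c ≠ 0 := by rintro rfl; omega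
      have : c = 1 := by omega
      rw [hc, this, mul_one]
    have h8 : (minpoly F a).natDegree ≤ 2 * m := by
      rw [← hd]
      exact natDegree_le_of_dvd (minpoly.dvd F a h1) hP
    refine ⟨minpoly F a, i, minpoly.dvd F a h1, h7.symm, by omega, by omega, Or.inl ⟨rfl, ?_⟩⟩
    rw [pow_succ, ← hia, inv_mul_cancel₀ ha0]
  · -- two different factors
    have hirr1 := minpoly.irreducible ha
    have hirr2 := minpoly.irreducible ha.inv
    have hcop : IsCoprime (minpoly F a) (minpoly F a⁻¹) := by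
      rw [hirr1.coprime_iff_not_dvd]
      intro h3
      apply hf
      exact (eq_of_monic_of_associated (minpoly.monic ha) (minpoly.monic ha.inv)
        (hirr1.associated_of_dvd hirr2 h3)).symm
    have h3 : minpoly F a * minpoly F a⁻¹ ∣ P := hcop.mul_dvd (minpoly.dvd F a h1) (minpoly.dvd F a⁻¹ h2)
    have h4 := natDegree_le_of_dvd h3 hP
    have h5 : (minpoly F a * minpoly F a⁻¹).natDegree = 2 * (minpoly F a).natDegree := by
      rw [natDegree_mul hirr1.ne_zero hirr2.ne_zero, deg_inv ha]; ring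
    refine ⟨_, (minpoly F a).natDegree, h3, h5, hpos, by omega, Or.inr ⟨rfl, ?_⟩⟩
    have h5 := pow_deg ha
    have h6 : Fintype.card F ^ (minpoly F a).natDegree = (Fintype.card F ^ (minpoly F a).natDegree - 1) + 1 := by
      have := Nat.pos_of_ne_zero (pow_ne_zero (minpoly F a).natDegree hq.ne')
      omega
    rw [h6, pow_succ] at h5
    exact mul_right_cancel₀ ha0 (h5.trans (one_mul a).symm)

/-- the degree datum of an eigenvalue -/
def Dt (q e : ℕ) (a : Ω) : Prop := a ^ (q ^ e + 1) = 1 ∨ a ^ (q ^ e - 1) = 1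

/-- **two eigenvalues with different orders** -/
theorem two_eig {a b : Ω} (ha : IsIntegral F a) (hb : IsIntegral F b) (ha0 : a ≠ 0) (hb0 : b ≠ 0) (ha2 : a ^ 2 ≠ 1)
    (hb2 : b ^ 2 ≠ 1) {P : F[X]} (hP : P ≠ 0) {m : ℕ} (hd : P.natDegree = 2 * m) (h1 : aeval a P = 0)
    (h2 : aeval a⁻¹ P = 0) (h3 : aeval b P = 0) (h4 : aeval b⁻¹ P = 0) {t : ℕ} (hat : a ^ t = 1) (hbt : b ^ t ≠ 1) :
    ∃ e e' : ℕ, 1 ≤ e ∧ 1 ≤ e' ∧ e + e' ≤ m ∧ Dt (Fintype.card F) e a ∧ Dt (Fintype.card F) e' b := by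
  obtain ⟨M, e, hM1, hM2, hM3, -, hM4⟩ := exists_factor ha ha0 ha2 hP hd h1 h2
  obtain ⟨M', e', hN1, hN2, hN3, -, hN4⟩ := exists_factor hb hb0 hb2 hP hd h3 h4
  -- coprimality
  have key : ∀ c d : Ω, IsIntegral F c → IsIntegral F d → c ^ t = 1 → d ^ t ≠ 1 →
      IsCoprime (minpoly F c) (minpoly F d) := by
    intro c d hc hd hct hdt
    have hirr1 := minpoly.irreducible hc
    have hirr2 := minpoly.irreducible hd
    rw [hirr1.coprime_iff_not_dvd]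
    intro h5
    have h6 := eq_of_monic_of_associated (minpoly.monic hc) (minpoly.monic hd) (hirr1.associated_of_dvd hirr2 h5)
    apply hdt
    have h7 : minpoly F c ∣ X ^ t - 1 := minpoly.dvd F c (by simp [hct])
    rw [h6] at h7
    obtain ⟨g, hg⟩ := h7
    have h8 := congrArg (aeval d) hg
    rw [map_mul, minpoly.aeval, zero_mul, map_sub, map_pow, aeval_X, map_one, sub_eq_zero] at h8
    exact h8
  have hat' : a⁻¹ ^ t = 1 := by rw [inv_pow, hat, inv_one]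
  have hbt' : b⁻¹ ^ t ≠ 1 := by
    rw [inv_pow]
    intro h
    exact hbt (inv_eq_one.1 h)
  have hcop : IsCoprime M M' := by
    rcases hM4 with ⟨rfl, -⟩ | ⟨rfl, -⟩ <;> rcases hN4 with ⟨rfl, -⟩ | ⟨rfl, -⟩
    · exact key a b ha hb hat hbt
    · exact (key a b ha hb hat hbt).mul_right (key a b⁻¹ ha hb.inv hat hbt')
    · exact (key a b ha hb hat hbt).mul_left (key a⁻¹ b ha.inv hb hat' hbt)
    · exact ((key a b ha hb hat hbt).mul_right (key a b⁻¹ ha hb.inv hat hbt')).mul_left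
        ((key a⁻¹ b ha.inv hb hat' hbt).mul_right (key a⁻¹ b⁻¹ ha.inv hb.inv hat' hbt'))
  have h5 := natDegree_le_of_dvd (hcop.mul_dvd hM1 hN1) hP
  have hM0 : M ≠ 0 := fun h => hP (by rw [h] at hM1; exact zero_dvd_iff.1 hM1)
  have hM0' : M' ≠ 0 := fun h => hP (by rw [h] at hN1; exact zero_dvd_iff.1 hN1)
  rw [natDegree_mul hM0 hM0', hM2, hN2, hd] at h5
  refine ⟨e, e', hM3, hN3, by omega, ?_, ?_⟩
  · rcases hM4 with ⟨-, h⟩ | ⟨-, h⟩
    · exact Or.inl h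
    · exact Or.inr h
  · rcases hN4 with ⟨-, h⟩ | ⟨-, h⟩
    · exact Or.inl h
    · exact Or.inr h

end Two

section Lift

variable {F : Type*} [Field F] [Fintype F] {n : ℕ}

omit [Fintype F] in
/-- an element of `PSp` of order `N` lifts to an element `x` with `x ^ (2 N) = 1`, `x ^ k ∉ {1, -1}` for `N ∤ k` -/
theorem exists_lift {N : ℕ} {y : PSp n F} (hy : orderOf y = N) : ∃ x : symplecticGroup (Fin n) F,
    x ^ (2 * N) = 1 ∧ ∀ k, ¬ N ∣ k → x ^ k ≠ 1 ∧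
      (x : Matrix (Fin n ⊕ Fin n) (Fin n ⊕ Fin n) F) ^ k ≠ -1 := by
  obtain ⟨x, rfl⟩ := QuotientGroup.mk_surjective y
  refine ⟨x, ?_, ?_⟩
  · have h1 : (QuotientGroup.mk (x ^ N) : PSp n F) = 1 := by
      rw [QuotientGroup.mk_pow, ← hy, pow_orderOf_eq_one]
    rw [QuotientGroup.eq_one_iff] at h1
    rw [mul_comm, pow_mul]
    exact H376.SpEmb.center_pow _ h1
  · intro k hk
    have key : x ^ k ∈ Subgroup.center (symplecticGroup (Fin n) F) → False := by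
      intro h
      apply hk
      rw [← hy]
      apply orderOf_dvd_of_pow_eq_one
      rw [← QuotientGroup.mk_pow]
      exact (QuotientGroup.eq_one_iff _).2 h
    refine ⟨fun h => key (by rw [h]; exact one_mem _), fun h => key ?_⟩
    rw [Subgroup.mem_center_iff]
    intro g
    apply Subtype.ext
    show (g : Matrix (Fin n ⊕ Fin n) (Fin n ⊕ Fin n) F) * (x ^ k : symplecticGroup (Fin n) F) =
      (x ^ k : symplecticGroup (Fin n) F) * g
    rw [SubmonoidClass.coe_pow, h]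
    simp

/-- eigenvalues of `x` -/
theorem exists_ev {x : symplecticGroup (Fin n) F} {N k : ℕ} (hN : (N : F) ≠ 0) (hx : x ^ N = 1) (hk : k ≠ 0)
    (hxk : x ^ k ≠ 1) : ∃ a : AlgebraicClosure F, aeval a (x : Matrix (Fin n ⊕ Fin n) (Fin n ⊕ Fin n) F).charpoly = 0 ∧
      a ^ N = 1 ∧ a ^ k ≠ 1 ∧ a ≠ 0 ∧ IsIntegral F a ∧
      aeval a⁻¹ (x : Matrix (Fin n ⊕ Fin n) (Fin n ⊕ Fin n) F).charpoly = 0 := by
  obtain ⟨a, ha, ha1, ha2⟩ := exists_root_ne (Ω := AlgebraicClosure F)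
    (x : Matrix (Fin n ⊕ Fin n) (Fin n ⊕ Fin n) F) hN (coe_pow_eq hx) (coe_pow_ne hxk) hk
  have hN0 : N ≠ 0 := by rintro rfl; exact hN Nat.cast_zero
  have ha0 : a ≠ 0 := by
    rintro rfl
    rw [zero_pow hN0] at ha1
    exact zero_ne_one ha1
  exact ⟨a, ha, ha1, ha2, ha0, Algebra.IsIntegral.isIntegral a, inv_root x.2 ha0 ha⟩

end Lift

/-! ### numbers -/

section Num

variable {q R k s : ℕ}

theorem prim_dvd (hq : 1 ≤ q) (hRo : orderOf ((q : ℕ) : ZMod R) = k) {e : ℕ} (h : R ∣ q ^ e - 1) : k ∣ e := by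
  rw [← hRo, orderOf_dvd_iff_pow_eq_one]
  have h1 : 1 ≤ q ^ e := Nat.one_le_pow _ _ hq
  rw [← ZMod.natCast_eq_zero_iff, Nat.cast_sub h1] at h
  push_cast at h
  exact sub_eq_zero.1 h

theorem prim_not (hR : R.Prime) (hRo : orderOf ((q : ℕ) : ZMod R) = k) (hk : Odd k) (hk3 : 3 ≤ k) {e : ℕ} :
    ¬ R ∣ q ^ e + 1 := by
  intro h
  have := Fact.mk hR
  rw [← ZMod.natCast_eq_zero_iff] at h
  push_cast at h
  have h1 : ((q : ℕ) : ZMod R) ^ e = -1 := eq_neg_of_add_eq_zero_left h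
  have h2 : ((q : ℕ) : ZMod R) ^ (e * 2) = 1 := by rw [pow_mul, h1]; norm_num
  have h3 : k ∣ e * 2 := by rw [← hRo]; exact orderOf_dvd_of_pow_eq_one h2
  have h4 : k ∣ e := by
    refine Nat.Coprime.dvd_of_dvd_mul_right ?_ h3
    rw [Nat.coprime_two_right]
    exact hk
  have h5 : ((q : ℕ) : ZMod R) ^ e = 1 := by rw [← hRo] at h4; exact orderOf_dvd_iff_pow_eq_one.1 h4
  rw [h5] at h1
  -- `R = 2`, the order of a unit modulo `2` is `1`
  have hR2 : R = 2 := by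
    have h6 : ((2 : ℕ) : ZMod R) = 0 := by push_cast; linear_combination h1
    rw [ZMod.natCast_eq_zero_iff] at h6
    exact (Nat.prime_dvd_prime_iff_eq hR Nat.prime_two).1 h6
  subst hR2
  have h7 : ((q : ℕ) : ZMod 2) ≠ 0 := by
    intro h8
    rw [h8, orderOf_zero] at hRo
    omega
  have h8 : orderOf ((q : ℕ) : ZMod 2) ∣ 2 - 1 := orderOf_dvd_of_pow_eq_one (ZMod.pow_card_sub_one_eq_one h7)
  rw [hRo] at h8
  have := Nat.le_of_dvd (by norm_num) h8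
  omega

theorem prim_ndvd (hR : R.Prime) (hRo : orderOf ((q : ℕ) : ZMod R) = k) (hk3 : 3 ≤ k) : ¬ R ∣ q := by
  intro h
  have := Fact.mk hR
  rw [(ZMod.natCast_eq_zero_iff q R).2 h, orderOf_zero] at hRo
  omega

theorem two_add (hq : q % 4 = 1) (hs : 1 ≤ s) {e : ℕ} : ¬ 2 ^ (s + 1) ∣ q ^ e + 1 := by
  intro h
  have h1 : 4 ∣ q ^ e + 1 := (pow_dvd_pow 2 (show 2 ≤ s + 1 by omega)).trans h
  have h2 : q ^ e % 4 = 1 := by rw [Nat.pow_mod, hq]; simp
  omega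

/-- the case `q ≡ 1` modulo `4` -/
theorem two_sub (hq : 1 ≤ q) (h1 : 2 ^ (s + 1) ∣ q ^ 2 - 1) (h2 : ¬ 2 ^ (s + 1) ∣ q - 1) {e : ℕ} (he : Odd e) :
    ¬ 2 ^ (s + 1) ∣ q ^ e - 1 := by
  intro h
  obtain ⟨i, hi⟩ := he
  apply h2
  have h3 : ∀ j : ℕ, 2 ^ (s + 1) ∣ q ^ j - 1 → ((q : ℕ) : ZMod (2 ^ (s + 1))) ^ j = 1 := by
    intro j h4
    have h5 : 1 ≤ q ^ j := Nat.one_le_pow _ _ hq
    rw [← ZMod.natCast_eq_zero_iff, Nat.cast_sub h5] at h4
    rw [Nat.cast_pow, Nat.cast_one] at h4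
    exact sub_eq_zero.1 h4
  have h4 := h3 2 h1
  have h5 := h3 e h
  rw [hi, pow_add _ (2 * i) 1, pow_mul _ 2 i, h4, one_pow, one_mul, pow_one] at h5
  rw [← ZMod.natCast_eq_zero_iff, Nat.cast_sub hq, h5, Nat.cast_one, sub_self]

/-- the case `q ≡ 3` modulo `4` -/
theorem four_dvd (hq : 1 ≤ q) (h1 : 2 ^ (s + 1) ∣ q ^ 4 - 1) (h2 : ¬ 2 ^ (s + 1) ∣ q ^ 2 - 1) {e : ℕ}
    (h : 2 ^ (s + 1) ∣ q ^ e - 1) : 4 ∣ e := by
  have h3 : ∀ j : ℕ, 2 ^ (s + 1) ∣ q ^ j - 1 → ((q : ℕ) : ZMod (2 ^ (s + 1))) ^ j = 1 := by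
    intro j h4
    have h5 : 1 ≤ q ^ j := Nat.one_le_pow _ _ hq
    rw [← ZMod.natCast_eq_zero_iff, Nat.cast_sub h5] at h4
    rw [Nat.cast_pow, Nat.cast_one] at h4
    exact sub_eq_zero.1 h4
  have h4 := h3 4 h1
  have h5 := h3 e h
  have h6 : ((q : ℕ) : ZMod (2 ^ (s + 1))) ^ 2 ≠ 1 := by
    intro h7
    apply h2
    have h8 : 1 ≤ q ^ 2 := Nat.one_le_pow _ _ hq
    rw [← ZMod.natCast_eq_zero_iff, Nat.cast_sub h8, Nat.cast_pow, h7, Nat.cast_one, sub_self]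
  have ho : orderOf ((q : ℕ) : ZMod (2 ^ (s + 1))) = 2 ^ (1 + 1) := by
    have : Fact (Nat.Prime 2) := ⟨Nat.prime_two⟩
    exact orderOf_eq_prime_pow (by rw [pow_one]; exact h6) (by norm_num; exact h4)
  have h7 := orderOf_dvd_of_pow_eq_one h5
  rw [ho] at h7
  exact h7

theorem two_add' (hq3 : q % 4 = 3) (hs : 1 ≤ s) (h1 : 2 ^ (s + 1) ∣ q ^ 4 - 1) (h2 : ¬ 2 ^ (s + 1) ∣ q ^ 2 - 1) {e : ℕ} :
    ¬ 2 ^ (s + 1) ∣ q ^ e + 1 := by
  intro h
  have h3 : 2 ^ (s + 1) ∣ q ^ (2 * e) - 1 := by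
    have h4 : q ^ (2 * e) - 1 = (q ^ e + 1) * (q ^ e - 1) := by
      have h5 : 1 ≤ q ^ e := Nat.one_le_pow _ _ (by omega)
      have h6 : 1 ≤ q ^ (2 * e) := Nat.one_le_pow _ _ (by omega)
      zify [h5, h6]; ring
    rw [h4]
    exact h.mul_right _
  have h4 := four_dvd (by omega) h1 h2 h3
  obtain ⟨i, hi⟩ : ∃ i, e = 2 * i := ⟨e / 2, by omega⟩
  have h5 : 4 ∣ q ^ e + 1 := (pow_dvd_pow 2 (show 2 ≤ s + 1 by omega)).trans h
  have h6 : q ^ e % 4 = 1 := by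
    rw [hi, pow_mul, Nat.pow_mod, Nat.pow_mod q 2, hq3]; simp
  omega

end Num

/-! ### the orders of the eigenvalues -/

section Ev

variable {Ω : Type*} [Field Ω] {a : Ω} {R s : ℕ}

theorem dvd_R (hR : R.Prime) {t u : ℕ} (h1 : a ^ (u * R) = 1) (h2 : a ^ u ≠ 1) (ht : a ^ t = 1) : R ∣ t := by
  have h3 := orderOf_dvd_of_pow_eq_one h1
  obtain ⟨d1, d2, hd1, hd2, hd⟩ := (Nat.dvd_mul).1 h3
  rcases (Nat.dvd_prime hR).1 hd2 with h4 | h4
  · exfalso
    rw [h4, mul_one] at hd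
    apply h2
    exact orderOf_dvd_iff_pow_eq_one.1 (hd ▸ hd1)
  · rw [h4] at hd
    exact (Dvd.intro_left _ hd).trans (orderOf_dvd_of_pow_eq_one ht)

theorem dvd_two (h1 : a ^ (2 ^ (s + 2) * R) = 1) (h2 : a ^ (2 ^ s * R) ≠ 1) {t : ℕ} (ht : a ^ t = 1) :
    2 ^ (s + 1) ∣ t := by
  have h3 := orderOf_dvd_of_pow_eq_one h1
  obtain ⟨d1, d2, hd1, hd2, hd⟩ := (Nat.dvd_mul).1 h3
  obtain ⟨i, hi, hd1'⟩ := (Nat.dvd_prime_pow Nat.prime_two).1 hd1
  have h4 : s < i := by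
    by_contra h5
    apply h2
    apply orderOf_dvd_iff_pow_eq_one.1
    rw [← hd, hd1']
    exact Nat.mul_dvd_mul (pow_dvd_pow 2 (by omega)) hd2
  have h5 : 2 ^ (s + 1) ∣ d1 := by rw [hd1']; exact pow_dvd_pow 2 h4
  exact (h5.trans (Dvd.intro _ hd)).trans (orderOf_dvd_of_pow_eq_one ht)

end Ev

/-! ### the three cases -/

section Main

variable {F : Type*} [Field F] [Fintype F] {n R s : ℕ}

theorem cast_ne {q : ℕ} (hF : Fintype.card F = q) {N : ℕ} (hN : Nat.Coprime N q) : (N : F) ≠ 0 := by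
  obtain ⟨p, hp⟩ := CharP.exists F
  have hpp : p.Prime := CharP.char_is_prime F p
  have h1 : p ∣ q := by
    rw [← CharP.cast_eq_zero_iff F p q, ← hF]
    exact FiniteField.cast_card_eq_zero F
  intro h
  rw [CharP.cast_eq_zero_iff F p] at h
  have h2 := Nat.dvd_gcd h h1
  rw [hN] at h2
  exact hpp.one_lt.ne' (Nat.dvd_one.1 h2)

/-- the eigenvalues of an element of order `2 ^ (s + 1) R` -/
theorem two_evs {q : ℕ} (hF : Fintype.card F = q) (ho : Odd q) (hR : R.Prime) (hR2 : R ≠ 2)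
    (hRq : ¬ R ∣ q) {y : PSp n F} (hy : orderOf y = 2 ^ (s + 1) * R) :
    ∃ (P : F[X]) (a b : AlgebraicClosure F), P ≠ 0 ∧ P.natDegree = 2 * n ∧
      (aeval a P = 0 ∧ aeval a⁻¹ P = 0 ∧ a ≠ 0 ∧ a ^ (2 ^ (s + 2) * R) = 1 ∧ a ^ 2 ^ (s + 2) ≠ 1) ∧
      (aeval b P = 0 ∧ aeval b⁻¹ P = 0 ∧ b ≠ 0 ∧ b ^ (2 ^ (s + 2) * R) = 1 ∧ b ^ (2 ^ s * R) ≠ 1) := by
  obtain ⟨x, hx1, hx2⟩ := exists_lift hy
  have h1 : x ^ (2 ^ (s + 2) * R) = 1 := by
    rw [← hx1]; congr 1; ring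
  have hN : ((2 ^ (s + 2) * R : ℕ) : F) ≠ 0 := by
    refine cast_ne hF ?_
    apply Nat.Coprime.mul_left
    · apply Nat.Coprime.pow_left
      rw [Nat.coprime_two_left]
      exact ho
    · exact (hR.coprime_iff_not_dvd).2 hRq
  have h2 : ¬ 2 ^ (s + 1) * R ∣ 2 ^ (s + 2) := by
    intro h
    exact hR2 ((Nat.prime_dvd_prime_iff_eq hR Nat.prime_two).1 (hR.dvd_of_dvd_pow ((Dvd.intro_left _ rfl).trans h)))
  have h3 : ¬ 2 ^ (s + 1) * R ∣ 2 ^ s * R := by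
    intro h
    have := Nat.dvd_of_mul_dvd_mul_right hR.pos h
    have h4 := (Nat.pow_dvd_pow_iff_le_right (by norm_num : 1 < 2)).1 this
    omega
  obtain ⟨a, ha1, ha2, ha3, ha4, -, ha5⟩ := exists_ev hN h1 (pow_ne_zero _ (by norm_num)) (hx2 _ h2).1
  obtain ⟨b, hb1, hb2, hb3, hb4, -, hb5⟩ := exists_ev hN h1 (Nat.mul_ne_zero (pow_ne_zero _ (by norm_num)) hR.ne_zero)
    (hx2 _ h3).1
  exact ⟨_, a, b, (Matrix.charpoly_monic x.1).ne_zero, natDegree_cp x.1, ⟨ha1, ha5, ha4, ha2, ha3⟩,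
    ⟨hb1, hb5, hb4, hb2, hb3⟩⟩

/-- **`q ≡ 1` modulo `4`**: `2 ^ (s + 1) R` is not an element order, `2 ^ s ∥ q - 1`, `R` primitive for `q ^ (n - 1) - 1` -/
theorem no_one {q : ℕ} (hF : Fintype.card F = q) (hq : q % 4 = 1) (hn : Even n) (hn4 : 4 ≤ n) (hR : R.Prime)
    (hRo : orderOf ((q : ℕ) : ZMod R) = n - 1) (hs : 1 ≤ s) (hs1 : 2 ^ s ∣ q - 1) (hs2 : ¬ 2 ^ (s + 1) ∣ q - 1)
    (y : PSp n F) : orderOf y ≠ 2 ^ (s + 1) * R := by
  intro hy
  have hq1 : 1 < q := hF ▸ Fintype.one_lt_card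
  have hoq : Odd q := ⟨q / 2, by omega⟩
  have hk : Odd (n - 1) := by obtain ⟨j, hj⟩ := hn; exact ⟨j - 1, by omega⟩
  have hR2 : R ≠ 2 := by
    rintro rfl
    exact prim_not hR hRo hk (by omega) (e := 1) (by rw [pow_one]; obtain ⟨j, hj⟩ := hoq; exact ⟨j + 1, by omega⟩)
  have hsq : 2 ^ (s + 1) ∣ q ^ 2 - 1 := by
    have h4 : q ^ 2 - 1 = (q - 1) * (q + 1) := by
      have h6 : 1 ≤ q ^ 2 := Nat.one_le_pow _ _ (by omega)
      zify [h6, hq1.le]; ring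
    rw [h4, pow_succ]
    exact Nat.mul_dvd_mul hs1 (by obtain ⟨j, hj⟩ := hoq; exact ⟨j + 1, by omega⟩)
  obtain ⟨P, a, b, hP, hd, ⟨ha1, ha2, ha0, ha3, ha4⟩, ⟨hb1, hb2, hb0, hb3, hb4⟩⟩ :=
    two_evs hF hoq hR hR2 (prim_ndvd hR hRo (by omega)) hy
  have hRa : ∀ t, a ^ t = 1 → R ∣ t := fun t ht => dvd_R hR ha3 ha4 ht
  have hTb : ∀ t, b ^ t = 1 → 2 ^ (s + 1) ∣ t := fun t ht => dvd_two hb3 hb4 ht
  have ha5 : a ^ 2 ≠ 1 := fun h => hR2 ((Nat.prime_dvd_prime_iff_eq hR Nat.prime_two).1 (hRa 2 h))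
  have hb5 : b ^ 2 ≠ 1 := fun h => by
    have h1 := Nat.le_of_dvd (by norm_num) (hTb 2 h)
    have h2 : 2 ^ 2 ≤ 2 ^ (s + 1) := Nat.pow_le_pow_right (by norm_num) (by omega)
    omega
  have hDa : ∀ e, 1 ≤ e → e ≤ n → Dt q e a → e = n - 1 ∧ a ^ (q ^ (n - 1) - 1) = 1 := by
    intro e he1 he2 h
    rcases h with h | h
    · exact absurd (hRa _ h) (prim_not hR hRo hk (by omega))
    · have h1 := prim_dvd (by omega) hRo (hRa _ h)
      obtain ⟨c, hc⟩ := h1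
      have hc1 : c < 2 := by
        by_contra h5
        have : (n - 1) * 2 ≤ (n - 1) * c := Nat.mul_le_mul_left _ (by omega)
        omega
      have hc0 : c ≠ 0 := by rintro rfl; omega
      have h6 : c = 1 := by omega
      rw [h6, mul_one] at hc
      exact ⟨hc, hc ▸ h⟩
  by_cases hab : ∀ t, a ^ t = 1 → 2 ^ (s + 1) ∣ t
  · obtain ⟨M, e, -, -, h1, h2, h3⟩ := exists_factor (Algebra.IsIntegral.isIntegral a) ha0 ha5 hP hd ha1 ha2
    have h4 : Dt q e a := by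
      rw [← hF]
      rcases h3 with ⟨-, h⟩ | ⟨-, h⟩
      · exact Or.inl h
      · exact Or.inr h
    exact two_sub (by omega) hsq hs2 hk (hab _ (hDa e h1 h2 h4).2)
  · push Not at hab
    obtain ⟨t, hat, ht⟩ := hab
    obtain ⟨e, e', he, he', hee, h1, h2⟩ := two_eig (Algebra.IsIntegral.isIntegral a) (Algebra.IsIntegral.isIntegral b)
      ha0 hb0 ha5 hb5 hP hd ha1 ha2 hb1 hb2 hat (fun h => ht (hTb t h))
    rw [hF] at h1 h2
    have h3 := (hDa e he (by omega) h1).1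
    have h4 : e' = 1 := by omega
    subst h4
    rcases h2 with h | h
    · exact two_add hq hs (hTb _ h)
    · rw [pow_one] at h
      exact hs2 (hTb _ h)

/-- **`q ≡ 3` modulo `4`, `n ≥ 6`**: `2 ^ (s + 1) R` is not an element order, `2 ^ s ∥ q ^ 2 - 1`, `R` primitive for
`q ^ (n - 3) - 1` -/
theorem no_three {q : ℕ} (hF : Fintype.card F = q) (hq : q % 4 = 3) (hn : Even n) (hn6 : 6 ≤ n) (hR : R.Prime)
    (hRo : orderOf ((q : ℕ) : ZMod R) = n - 3) (hs : 1 ≤ s) (hs1 : 2 ^ s ∣ q ^ 2 - 1) (hs2 : ¬ 2 ^ (s + 1) ∣ q ^ 2 - 1)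
    (y : PSp n F) : orderOf y ≠ 2 ^ (s + 1) * R := by
  intro hy
  have hq1 : 1 < q := by omega
  have hoq : Odd q := ⟨q / 2, by omega⟩
  have hk : Odd (n - 3) := by obtain ⟨j, hj⟩ := hn; exact ⟨j - 2, by omega⟩
  have hR2 : R ≠ 2 := by
    rintro rfl
    exact prim_not hR hRo hk (by omega) (e := 1) (by rw [pow_one]; obtain ⟨j, hj⟩ := hoq; exact ⟨j + 1, by omega⟩)
  have hsq : 2 ^ (s + 1) ∣ q ^ 4 - 1 := by
    have h4 : q ^ 4 - 1 = (q ^ 2 - 1) * (q ^ 2 + 1) := by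
      have h6 : 1 ≤ q ^ 2 := Nat.one_le_pow _ _ (by omega)
      have h7 : 1 ≤ q ^ 4 := Nat.one_le_pow _ _ (by omega)
      zify [h6, h7]; ring
    rw [h4, pow_succ]
    exact Nat.mul_dvd_mul hs1 (by obtain ⟨j, hj⟩ := hoq.pow (n := 2); exact ⟨j + 1, by omega⟩)
  obtain ⟨P, a, b, hP, hd, ⟨ha1, ha2, ha0, ha3, ha4⟩, ⟨hb1, hb2, hb0, hb3, hb4⟩⟩ :=
    two_evs hF hoq hR hR2 (prim_ndvd hR hRo (by omega)) hy
  have hRa : ∀ t, a ^ t = 1 → R ∣ t := fun t ht => dvd_R hR ha3 ha4 ht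
  have hTb : ∀ t, b ^ t = 1 → 2 ^ (s + 1) ∣ t := fun t ht => dvd_two hb3 hb4 ht
  have ha5 : a ^ 2 ≠ 1 := fun h => hR2 ((Nat.prime_dvd_prime_iff_eq hR Nat.prime_two).1 (hRa 2 h))
  have hb5 : b ^ 2 ≠ 1 := fun h => by
    have h1 := Nat.le_of_dvd (by norm_num) (hTb 2 h)
    have h2 : 2 ^ 2 ≤ 2 ^ (s + 1) := Nat.pow_le_pow_right (by norm_num) (by omega)
    omega
  have hDa : ∀ e, Dt q e a → n - 3 ∣ e := by
    intro e h
    rcases h with h | h
    · exact absurd (hRa _ h) (prim_not hR hRo hk (by omega))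
    · exact prim_dvd (by omega) hRo (hRa _ h)
  have hDb : ∀ (c : AlgebraicClosure F) (e : ℕ), (∀ t, c ^ t = 1 → 2 ^ (s + 1) ∣ t) → Dt q e c → 4 ∣ e := by
    intro c e hc h
    rcases h with h | h
    · exact absurd (hc _ h) (two_add' hq hs hsq hs2)
    · exact four_dvd (by omega) hsq hs2 (hc _ h)
  by_cases hab : ∀ t, a ^ t = 1 → 2 ^ (s + 1) ∣ t
  · obtain ⟨M, e, -, -, h1, h2, h3⟩ := exists_factor (Algebra.IsIntegral.isIntegral a) ha0 ha5 hP hd ha1 ha2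
    have h4 : Dt q e a := by
      rw [← hF]
      rcases h3 with ⟨-, h⟩ | ⟨-, h⟩
      · exact Or.inl h
      · exact Or.inr h
    have h5 := hDa e h4
    have h6 := hDb a e hab h4
    have h7 : 4 * (n - 3) ∣ e := by
      refine Nat.Coprime.mul_dvd_of_dvd_of_dvd ?_ h6 h5
      rw [show (4 : ℕ) = 2 ^ 2 by norm_num]
      apply Nat.Coprime.pow_left
      rw [Nat.coprime_two_left]
      exact hk
    have h8 := Nat.le_of_dvd (by omega) h7
    omega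
  · push Not at hab
    obtain ⟨t, hat, ht⟩ := hab
    obtain ⟨e, e', he, he', hee, h1, h2⟩ := two_eig (Algebra.IsIntegral.isIntegral a) (Algebra.IsIntegral.isIntegral b)
      ha0 hb0 ha5 hb5 hP hd ha1 ha2 hb1 hb2 hat (fun h => ht (hTb t h))
    rw [hF] at h1 h2
    have h3 := Nat.le_of_dvd (by omega) (hDa e h1)
    have h4 := Nat.le_of_dvd (by omega) (hDb b e' hTb h2)
    omega

/-- **`q ≡ 3` modulo `4`, `n = 4`**: `2 ^ (s + 1)` is not an element order, `2 ^ s ∥ q ^ 2 - 1` -/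
theorem no_four {q : ℕ} (hF : Fintype.card F = q) (hq : q % 4 = 3) (hs : 1 ≤ s) (hs1 : 2 ^ s ∣ q ^ 2 - 1)
    (hs2 : ¬ 2 ^ (s + 1) ∣ q ^ 2 - 1) (y : PSp 4 F) : orderOf y ≠ 2 ^ (s + 1) := by
  intro hy
  have hq1 : 1 < q := by omega
  have hoq : Odd q := ⟨q / 2, by omega⟩
  have hsq : 2 ^ (s + 1) ∣ q ^ 4 - 1 := by
    have h4 : q ^ 4 - 1 = (q ^ 2 - 1) * (q ^ 2 + 1) := by
      have h6 : 1 ≤ q ^ 2 := Nat.one_le_pow _ _ (by omega)
      have h7 : 1 ≤ q ^ 4 := Nat.one_le_pow _ _ (by omega)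
      zify [h6, h7]; ring
    rw [h4, pow_succ]
    exact Nat.mul_dvd_mul hs1 (by obtain ⟨j, hj⟩ := hoq.pow (n := 2); exact ⟨j + 1, by omega⟩)
  obtain ⟨x, hx1, hx2⟩ := exists_lift hy
  have h1 : x ^ 2 ^ (s + 2) = 1 := by rw [← hx1]; congr 1; ring
  have hN : ((2 ^ (s + 2) : ℕ) : F) ≠ 0 := by
    refine cast_ne hF ?_
    apply Nat.Coprime.pow_left
    rw [Nat.coprime_two_left]
    exact hoq
  have h3 : ¬ 2 ^ (s + 1) ∣ 2 ^ s := by
    intro h
    have h4 := (Nat.pow_dvd_pow_iff_le_right (by norm_num : 1 < 2)).1 h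
    omega
  obtain ⟨b, hb1, hb3, hb4, hb0, hbi, hb2⟩ := exists_ev hN h1 (pow_ne_zero _ (by norm_num)) (hx2 _ h3).1
  have hTb : ∀ t, b ^ t = 1 → 2 ^ (s + 1) ∣ t := fun t ht => by
    have h5 := dvd_two (a := b) (R := 1) (s := s) (by rw [mul_one]; exact hb3) (by rw [mul_one]; exact hb4) ht
    exact h5
  have hb5 : b ^ 2 ≠ 1 := fun h => by
    have h1 := Nat.le_of_dvd (by norm_num) (hTb 2 h)
    have h2 : 2 ^ 2 ≤ 2 ^ (s + 1) := Nat.pow_le_pow_right (by norm_num) (by omega)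
    omega
  obtain ⟨M, e, hM1, hM2, he1, he2, hM3⟩ := exists_factor hbi hb0 hb5 (Matrix.charpoly_monic x.1).ne_zero
    (natDegree_cp x.1) hb1 hb2
  rw [hF] at hM3
  rcases hM3 with ⟨-, h⟩ | ⟨hM, h⟩
  · exact two_add' hq hs hsq hs2 (hTb _ h)
  · have h4 := Nat.le_of_dvd (by omega) (four_dvd (by omega) hsq hs2 (hTb _ h))
    have he : e = 4 := by omega
    subst he
    -- `b ^ 2 ^ (s + 1) = 1`
    have h5 : b ^ 2 ^ (s + 1) = 1 := by
      have h6 := orderOf_dvd_of_pow_eq_one h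
      have h7 := orderOf_dvd_of_pow_eq_one hb3
      obtain ⟨i, hi, hi2⟩ := (Nat.dvd_prime_pow Nat.prime_two).1 h7
      rw [hi2] at h6
      have h8 : i ≤ s + 1 := by
        by_contra h9
        have h10 : 2 ^ (s + 2) ∣ q ^ 4 - 1 := (pow_dvd_pow 2 (by omega)).trans h6
        have h11 : q ^ 4 - 1 = (q ^ 2 - 1) * (q ^ 2 + 1) := by
          have h6 : 1 ≤ q ^ 2 := Nat.one_le_pow _ _ (by omega)
          have h7 : 1 ≤ q ^ 4 := Nat.one_le_pow _ _ (by omega)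
          zify [h6, h7]; ring
        have h12 : q ^ 2 % 4 = 1 := by rw [Nat.pow_mod, hq]
        obtain ⟨c, hc⟩ : ∃ c, q ^ 2 + 1 = 2 * (2 * c + 1) := ⟨q ^ 2 / 4, by omega⟩
        rw [h11, hc, show 2 ^ (s + 2) = 2 * 2 ^ (s + 1) by ring, ← mul_assoc, mul_comm (q ^ 2 - 1) 2, mul_assoc] at h10
        have h13 := Nat.dvd_of_mul_dvd_mul_left (by norm_num) h10
        apply hs2
        refine Nat.Coprime.dvd_of_dvd_mul_right ?_ h13
        apply Nat.Coprime.pow_left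
        rw [Nat.coprime_two_left]
        exact ⟨c, rfl⟩
      apply orderOf_dvd_iff_pow_eq_one.1
      rw [hi2]
      exact pow_dvd_pow 2 h8
    have h6 : b ^ 2 ^ s = -1 := by
      have h7 : b ^ 2 ^ s * b ^ 2 ^ s = 1 := by rw [← pow_add, ← two_mul, ← pow_succ', h5]
      exact (mul_self_eq_one_iff.1 h7).resolve_left hb4
    have h7 : b⁻¹ ^ 2 ^ s = -1 := by rw [inv_pow, h6, inv_neg, inv_one]
    have hMx : M = x.1.charpoly := by
      have h10 := natDegree_cp x.1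
      have h11 : M.Monic := by rw [hM]; exact (minpoly.monic hbi).mul (minpoly.monic hbi.inv)
      have h12 := Matrix.charpoly_monic x.1
      revert h10 h12 hM1
      generalize x.1.charpoly = Q
      intro hM1 h10 h12
      exact (eq_of_monic_of_dvd_of_natDegree_le h11 h12 hM1 (by rw [h10, hM2])).symm
    -- the factors are different
    have hcop : IsCoprime (minpoly F b) (minpoly F b⁻¹) := by
      have hirr1 := minpoly.irreducible hbi
      have hirr2 := minpoly.irreducible hbi.inv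
      rw [hirr1.coprime_iff_not_dvd]
      intro h8
      have h9 := eq_of_monic_of_associated (minpoly.monic hbi) (minpoly.monic hbi.inv)
        (hirr1.associated_of_dvd hirr2 h8)
      -- then `b⁻¹` is conjugate to `b`
      obtain ⟨i, hi, hib⟩ := conj_pow hbi (by rw [h9]; exact minpoly.aeval _ _) (inv_mem_adj (F := F) (a := b))
      have h10 : b ^ (q ^ i + 1) = 1 := by
        rw [← hF, pow_succ, ← hib, inv_mul_cancel₀ hb0]
      exact two_add' hq hs hsq hs2 (hTb _ h10)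
    have h8 : x.1.charpoly ∣ X ^ 2 ^ s + 1 := by
      rw [← hMx, hM]
      apply hcop.mul_dvd
      · apply minpoly.dvd; simp [h6]
      · apply minpoly.dvd
        rw [map_add, map_pow, aeval_X, map_one, h7, neg_add_cancel]
    obtain ⟨c, hc⟩ := h8
    have h9 := congrArg (aeval x.1) hc
    rw [map_mul, Matrix.aeval_self_charpoly, zero_mul, map_add, map_pow, aeval_X, map_one] at h9
    exact (hx2 _ h3).2 (eq_neg_of_add_eq_zero_left h9)

end Main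

end Cfsg.Agent.H365.CV
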