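import Mathlib
import Cfsg.Agent.H357.CV.Tool
import Cfsg.Agent.H548.CV.SpFour
import Cfsg.Agent.H376.SpEmb

/-!
# S3442: cross characteristic, the subgroups `Sym_n : GL_n` of `PSp_2n(F)` (helper365)
-/

set_option autoImplicit false

namespace Cfsg.Agent.H365.CV

open Matrix Subgroup Cfsg.Agent.H373.CV Cfsg.Agent.H357.CV Cfsg.Agent.H548.CV

universe u v w

section

variable {F : Type v} [Field F] {n : ℕ}

/-- the image of `diag (A, A⁻ᵀ)` -/
def el : GL (Fin n) F →* PSp n F := (QuotientGroup.mk' _).comp dg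

theorem mem_center {g : symplecticGroup (Fin n) F}
    (h : (g : Matrix (Fin n ⊕ Fin n) (Fin n ⊕ Fin n) F) = 1 ∨ (g : Matrix (Fin n ⊕ Fin n) (Fin n ⊕ Fin n) F) = -1) :
    g ∈ center (symplecticGroup (Fin n) F) := by
  rw [Subgroup.mem_center_iff]
  intro x
  apply Subtype.ext
  show (x : Matrix (Fin n ⊕ Fin n) (Fin n ⊕ Fin n) F) * g = g * x
  rcases h with h | h <;> rw [h] <;> simp

theorem el_eq_one {A : GL (Fin n) F} : el A = 1 ↔
    (A : Matrix (Fin n) (Fin n) F) = 1 ∨ (A : Matrix (Fin n) (Fin n) F) = -1 := by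
  show (QuotientGroup.mk (dg A) : PSp n F) = 1 ↔ _
  rw [QuotientGroup.eq_one_iff]
  constructor
  · intro h
    rcases ClassicalGeometry.SympInvolutions.center_eq h with h1 | h1
    · left
      have h2 : fromBlocks (A : Matrix (Fin n) (Fin n) F) 0 0 ((A⁻¹ : GL (Fin n) F) : Matrix (Fin n) (Fin n) F)ᵀ =
          fromBlocks 1 0 0 1 := by rw [fromBlocks_one]; exact h1
      exact (fromBlocks_inj.1 h2).1
    · right
      have h2 : fromBlocks (A : Matrix (Fin n) (Fin n) F) 0 0 ((A⁻¹ : GL (Fin n) F) : Matrix (Fin n) (Fin n) F)ᵀ =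
          fromBlocks (-1) (-0) (-0) (-1) := by rw [← fromBlocks_neg, fromBlocks_one]; exact h1
      exact (fromBlocks_inj.1 h2).1
  · intro h
    apply mem_center
    rcases h with h | h
    · left
      have hA : A = 1 := Units.ext h
      rw [hA, map_one]
      rfl
    · right
      have hA : A = -1 := Units.ext h
      show fromBlocks (A : Matrix (Fin n) (Fin n) F) 0 0 ((A⁻¹ : GL (Fin n) F) : Matrix (Fin n) (Fin n) F)ᵀ = -1
      rw [hA]
      have h3 : ((-1 : GL (Fin n) F)⁻¹ : GL (Fin n) F) = -1 := by simp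
      rw [h3, Units.val_neg, Units.val_one, transpose_neg, transpose_one, ← fromBlocks_one, fromBlocks_neg, neg_zero]

theorem el_pow_eq_one {A : GL (Fin n) F} {k : ℕ} : el A ^ k = 1 ↔
    (A : Matrix (Fin n) (Fin n) F) ^ k = 1 ∨ (A : Matrix (Fin n) (Fin n) F) ^ k = -1 := by
  rw [← map_pow, el_eq_one, Units.val_pow_eq_pow_val]

/-- the unipotent elements -/
def us (S : Matrix (Fin n) (Fin n) F) (hS : Sᵀ = S) : PSp n F := QuotientGroup.mk (sy S hS)

theorem us_eq_one (h2 : (2 : F) ≠ 0) {S : Matrix (Fin n) (Fin n) F} {hS : Sᵀ = S} (h : us S hS = 1) : S = 0 := by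
  rw [us, QuotientGroup.eq_one_iff] at h
  rcases ClassicalGeometry.SympInvolutions.center_eq h with h1 | h1
  · have h2 : fromBlocks (1 : Matrix (Fin n) (Fin n) F) S (0 : Matrix (Fin n) (Fin n) F) 1 =
        fromBlocks (1 : Matrix (Fin n) (Fin n) F) 0 0 1 := by
      rw [fromBlocks_one]; exact h1
    exact (fromBlocks_inj.1 h2).2.1
  · have h3 : fromBlocks (1 : Matrix (Fin n) (Fin n) F) S (0 : Matrix (Fin n) (Fin n) F) 1 =
        fromBlocks (-(1 : Matrix (Fin n) (Fin n) F)) (-0) (-0) (-1) := by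
      rw [← fromBlocks_neg, fromBlocks_one]; exact h1
    have h4 := (fromBlocks_inj.1 h3).1
    ext i j
    exfalso
    have h5 := congrFun (congrFun h4 i) i
    rw [neg_apply, one_apply_eq] at h5
    apply h2
    linear_combination h5

theorem us_mul (S T : Matrix (Fin n) (Fin n) F) (hS : Sᵀ = S) (hT : Tᵀ = T) :
    us S hS * us T hT = us (S + T) (by rw [transpose_add, hS, hT]) := by
  show (QuotientGroup.mk (sy S hS * sy T hT) : PSp n F) = _
  rw [sy_mul]
  rfl

theorem el_us (A : GL (Fin n) F) (S : Matrix (Fin n) (Fin n) F) (hS : Sᵀ = S) :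
    el A * us S hS * (el A)⁻¹ = us ((A : Matrix (Fin n) (Fin n) F) * S * (A : Matrix (Fin n) (Fin n) F)ᵀ) (by
      rw [transpose_mul, transpose_mul, transpose_transpose, hS, mul_assoc]) := by
  show (QuotientGroup.mk (dg A * sy S hS * (dg A)⁻¹) : PSp n F) = _
  rw [dg_sy]
  rfl

theorem us_congr {S T : Matrix (Fin n) (Fin n) F} (h : S = T) (hS : Sᵀ = S) (hT : Tᵀ = T) : us S hS = us T hT := by
  subst h; rfl

theorem us_zero : us (0 : Matrix (Fin n) (Fin n) F) transpose_zero = 1 := by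
  apply (QuotientGroup.eq_one_iff _).2
  apply mem_center
  left
  show fromBlocks (1 : Matrix (Fin n) (Fin n) F) 0 0 1 = 1
  rw [fromBlocks_one]

theorem us_inj (h2 : (2 : F) ≠ 0) {S T : Matrix (Fin n) (Fin n) F} {hS : Sᵀ = S} {hT : Tᵀ = T}
    (h : us S hS = us T hT) : S = T := by
  have h1 : us (S + -T) (by rw [transpose_add, transpose_neg, hS, hT]) = 1 := by
    rw [← us_mul S (-T) hS (by rw [transpose_neg, hT]), h, us_mul, us_congr (add_neg_cancel T) _ transpose_zero,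
      us_zero]
  have h3 := us_eq_one h2 h1
  rwa [← sub_eq_add_neg, sub_eq_zero] at h3

/-- **TOOL A for `Sym_n : GL_n`.** -/
theorem hit_of_sym [Finite F] (hs : IsSimpleGroup (PSp n F)) (h2 : (2 : F) ≠ 0) {r : ℕ} (hr : r.Prime)
    (hT : ∃ x : PSp n F, ¬ r ∣ orderOf x ∧ ∀ y : PSp n F, orderOf y ≠ r * orderOf x)
    {V : Type w} [AddCommGroup V] [Finite V] (hV : ¬ r ∣ Nat.card V) (N : V → Matrix (Fin n) (Fin n) F)
    (hadd : ∀ a b, N (a + b) = N a + N b) (hne : ∃ a, N a ≠ 0) (hsym : ∀ a, (N a)ᵀ = N a)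
    (A : GL (Fin n) F) (f : V → V) (hf : ∀ a, (A : Matrix (Fin n) (Fin n) F) * N a * (A : Matrix (Fin n) (Fin n) F)ᵀ = N (f a))
    (hfree : ∀ i, (A : Matrix (Fin n) (Fin n) F) ^ i ≠ 1 → (A : Matrix (Fin n) (Fin n) F) ^ i ≠ -1 → ∀ a,
      (A : Matrix (Fin n) (Fin n) F) ^ i * N a * ((A : Matrix (Fin n) (Fin n) F) ^ i)ᵀ = N a → N a = 0)
    (ho : ∀ y : PSp n F, orderOf y ≠ r * orderOf (el A)) : Hit.{u, v} r (PSp n F) := by
  have hfin : Finite (PSp n F) := by
    have : Finite (symplecticGroup (Fin n) F) := inferInstance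
    infer_instance
  let ψ : Multiplicative V →* PSp n F := MonoidHom.mk' (fun a => us (N a.toAdd) (hsym _)) (by
    intro a b
    show us (N (a.toAdd + b.toAdd)) _ = _
    rw [us_mul]
    exact us_congr (hadd _ _) _ _)
  have hψ : ∀ a : V, ψ (Multiplicative.ofAdd a) = us (N a) (hsym a) := fun _ => rfl
  have hmem : ∀ x ∈ ψ.range, ∃ a : V, x = us (N a) (hsym a) := by
    rintro _ ⟨a, rfl⟩
    exact ⟨a.toAdd, rfl⟩
  refine hit_of_frob hr hT ψ.range ?_ ?_ (el A) ?_ ?_ ho
  · intro h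
    obtain ⟨a, ha⟩ := hne
    apply ha
    have h1 : ψ (Multiplicative.ofAdd a) ∈ ψ.range := ⟨_, rfl⟩
    rw [h, Subgroup.mem_bot] at h1
    exact us_eq_one h2 h1
  · intro h
    exact hV (h.trans (Subgroup.card_range_dvd ψ))
  · intro x hx
    obtain ⟨a, rfl⟩ := hmem x hx
    rw [el_us, us_congr (hf a) _ (hsym _)]
    exact ⟨Multiplicative.ofAdd (f a), rfl⟩
  · intro i hi x hx hc
    obtain ⟨a, rfl⟩ := hmem x hx
    have h1 := mt el_pow_eq_one.2 hi
    push Not at h1
    have h3 : el (A ^ i) * us (N a) (hsym a) * (el (A ^ i))⁻¹ = us (N a) (hsym a) := by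
      rw [map_pow, hc, mul_inv_cancel_right]
    rw [el_us] at h3
    have h4 := us_inj h2 h3
    rw [Units.val_pow_eq_pow_val] at h4
    have h5 := hfree i h1.1 h1.2 a h4
    rw [us_congr h5 _ transpose_zero, us_zero]

/-- the same with another index type -/
theorem hit_of_sym' [Finite F] {ι : Type*} [Fintype ι] [DecidableEq ι] (e : ι ≃ Fin n) (hs : IsSimpleGroup (PSp n F))
    (h2 : (2 : F) ≠ 0) {r : ℕ} (hr : r.Prime)
    (hT : ∃ x : PSp n F, ¬ r ∣ orderOf x ∧ ∀ y : PSp n F, orderOf y ≠ r * orderOf x)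
    {V : Type w} [AddCommGroup V] [Finite V] (hV : ¬ r ∣ Nat.card V) (N : V → Matrix ι ι F)
    (hadd : ∀ a b, N (a + b) = N a + N b) (hne : ∃ a, N a ≠ 0) (hsym : ∀ a, (N a)ᵀ = N a)
    (A : GL ι F) (f : V → V) (hf : ∀ a, (A : Matrix ι ι F) * N a * (A : Matrix ι ι F)ᵀ = N (f a))
    (hfree : ∀ i, (A : Matrix ι ι F) ^ i ≠ 1 → (A : Matrix ι ι F) ^ i ≠ -1 → ∀ a,
      (A : Matrix ι ι F) ^ i * N a * ((A : Matrix ι ι F) ^ i)ᵀ = N a → N a = 0)
    (ho : ∀ y : PSp n F, orderOf y ≠ r * orderOf (el (Units.map (reindexAlgEquiv F F e).toRingHom.toMonoidHom A))) :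
    Hit.{u, v} r (PSp n F) := by
  set A' : GL (Fin n) F := Units.map (reindexAlgEquiv F F e).toRingHom.toMonoidHom A with hA'
  have hval : (A' : Matrix (Fin n) (Fin n) F) = reindexAlgEquiv F F e (A : Matrix ι ι F) := rfl
  have hpow : ∀ i, (A' : Matrix (Fin n) (Fin n) F) ^ i = reindexAlgEquiv F F e ((A : Matrix ι ι F) ^ i) := by
    intro i
    rw [hval, map_pow]
  have htr : ∀ X : Matrix ι ι F, (reindexAlgEquiv F F e X)ᵀ = reindexAlgEquiv F F e Xᵀ := by
    intro X
    rfl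
  refine hit_of_sym hs h2 hr hT hV (fun a => reindexAlgEquiv F F e (N a)) ?_ ?_ ?_ A' f ?_ ?_ ho
  · intro a b
    rw [hadd, map_add]
  · obtain ⟨a, ha⟩ := hne
    exact ⟨a, fun h => ha ((map_eq_zero_iff _ (reindexAlgEquiv F F e).injective).1 h)⟩
  · intro a
    rw [htr, hsym]
  · intro a
    rw [hval, htr, ← map_mul, ← map_mul, hf]
  · intro i h1 h3 a h4
    rw [hpow] at h1 h3 h4
    rw [htr, ← map_mul, ← map_mul] at h4
    have h5 := (reindexAlgEquiv F F e).injective h4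
    have h6 := hfree i (fun h => h1 (by rw [h, map_one])) (fun h => h3 (by rw [h, map_neg, map_one])) a h5
    rw [h6, map_zero]

/-- the order of the element -/
theorem el_pow_map {ι : Type*} [Fintype ι] [DecidableEq ι] (e : ι ≃ Fin n) (A : GL ι F) (k : ℕ) :
    el (Units.map (reindexAlgEquiv F F e).toRingHom.toMonoidHom A) ^ k = 1 ↔
      (A : Matrix ι ι F) ^ k = 1 ∨ (A : Matrix ι ι F) ^ k = -1 := by
  rw [el_pow_eq_one]
  have hpow : ((Units.map (reindexAlgEquiv F F e).toRingHom.toMonoidHom A : GL (Fin n) F) : Matrix (Fin n) (Fin n) F) ^ k =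
      reindexAlgEquiv F F e ((A : Matrix ι ι F) ^ k) := by
    show (reindexAlgEquiv F F e (A : Matrix ι ι F)) ^ k = _
    rw [map_pow]
  rw [hpow]
  constructor
  · rintro (h | h)
    · left
      rw [← map_one (reindexAlgEquiv F F e)] at h
      exact (reindexAlgEquiv F F e).injective h
    · right
      rw [← map_one (reindexAlgEquiv F F e), ← map_neg] at h
      exact (reindexAlgEquiv F F e).injective h
  · rintro (h | h)
    · left; rw [h, map_one]
    · right; rw [h, map_neg, map_one]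

end

end Cfsg.Agent.H365.CV
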