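import Mathlib
import Cfsg.Agent.H365.CV.SpSym
import Cfsg.Agent.H365.CV.SpOrd
import Cfsg.Agent.H548.CV.Hyp
import Cfsg.Agent.H977.Cyc.LfSp
import Cfsg.Agent.Lib.Zsigmondy

/-!
# S3442, row X7, `r = 2`: `PSp_2n(F)`, `q` odd, `n ≥ 4` even (helper365)
-/

set_option autoImplicit false

namespace Cfsg.Agent.H365.CV

open Matrix Subgroup Cfsg.Agent.H373.CV Cfsg.Agent.H357.CV Cfsg.Agent.H548.CV

universe u v w

section Ext

variable {F : Type v} [Field F] [Finite F]

/-- an extension with a unit of given order -/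
theorem exists_unit {k : ℕ} (hk : k ≠ 0) {N : ℕ} (hN : N ∣ Nat.card F ^ k - 1) :
    ∃ (K : Type) (_ : Field K) (_ : Algebra F K) (_ : Finite K) (_ : Module.Basis (Fin k) F K) (θ : Kˣ),
      orderOf θ = N := by
  have hc : 1 < Nat.card F := Finite.one_lt_card
  obtain ⟨K, _, _, ⟨b⟩⟩ := H514.DP.exists_ext (F := F) hk
  have hK : Finite K := H514.DP.finite_ext b
  have hcard : Nat.card Kˣ = Nat.card F ^ k - 1 := by
    rw [Nat.card_units, H514.DP.card_ext b]
  obtain ⟨g, hg⟩ := IsCyclic.exists_ofOrder_eq_natCard (α := Kˣ)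
  rw [hcard] at hg
  have hpos : 0 < Nat.card F ^ k - 1 := by rw [← hcard]; exact Nat.card_pos
  obtain ⟨c, hc⟩ := hN
  have hc0 : c ≠ 0 := by rintro rfl; omega
  have h1 : orderOf (g ^ c) = N := by
    rw [orderOf_pow_of_dvd hc0 (by rw [hg, hc]; exact ⟨N, mul_comm _ _⟩), hg, hc, Nat.mul_div_cancel _ (by omega)]
  exact ⟨K, inferInstance, inferInstance, hK, b, g ^ c, h1⟩

/-- matrices of units -/
theorem exists_mat {k : ℕ} (hk : k ≠ 0) {N : ℕ} (hN : N ∣ Nat.card F ^ k - 1) :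
    ∃ A : GL (Fin k) F, orderOf A = N ∧ ∀ i : ℕ, A ^ i ≠ 1 → IsUnit (((A ^ i : GL (Fin k) F) : Matrix (Fin k) (Fin k) F) - 1) := by
  obtain ⟨K, _, _, hK, b, θ, hθ⟩ := exists_unit hk hN
  refine ⟨Units.map (Algebra.leftMulMatrix b : K →* Matrix (Fin k) (Fin k) F) θ, ?_, ?_⟩
  · rw [orderOf_injective, hθ]
    exact Units.map_injective (Algebra.leftMulMatrix_injective b)
  · intro i hi
    have h1 : (((Units.map (Algebra.leftMulMatrix b : K →* Matrix (Fin k) (Fin k) F) θ) ^ i : GL (Fin k) F) :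
        Matrix (Fin k) (Fin k) F) - 1 = Algebra.leftMulMatrix b ((θ : K) ^ i - 1) := by
      rw [map_sub, map_pow, map_one]
      rfl
    rw [h1]
    apply IsUnit.map
    apply IsUnit.mk0
    intro h2
    apply hi
    rw [← map_pow]
    have h3 : θ ^ i = 1 := Units.ext (by push_cast; exact sub_eq_zero.1 h2)
    rw [h3, map_one]

end Ext

section Three

variable {F : Type v} [Field F] {n : ℕ}

/-- `diag (A, B, 1)` -/
def d3 {α β γ : Type*} [Fintype α] [Fintype β] [Fintype γ] [DecidableEq α] [DecidableEq β] [DecidableEq γ] (A : GL α F)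
    (B : GL β F) : GL ((α ⊕ β) ⊕ γ) F where
  val := fromBlocks (fromBlocks A.1 0 0 B.1) 0 0 1
  inv := fromBlocks (fromBlocks A.2 0 0 B.2) 0 0 1
  val_inv := by simp [fromBlocks_multiply]
  inv_val := by simp [fromBlocks_multiply]

theorem d3_pow {α β γ : Type*} [Fintype α] [Fintype β] [Fintype γ] [DecidableEq α] [DecidableEq β] [DecidableEq γ]
    (A : GL α F) (B : GL β F) (k : ℕ) : (d3 (γ := γ) A B : Matrix ((α ⊕ β) ⊕ γ) ((α ⊕ β) ⊕ γ) F) ^ k =
      fromBlocks (fromBlocks ((A ^ k : GL α F) : Matrix α α F) 0 0 ((B ^ k : GL β F) : Matrix β β F)) 0 0 1 := by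
  show (fromBlocks (fromBlocks A.1 0 0 B.1) 0 0 1) ^ k = _
  rw [fromBlocks_diagonal_pow, fromBlocks_diagonal_pow, one_pow, Units.val_pow_eq_pow_val, Units.val_pow_eq_pow_val]

/-- **`X ↦ A X Bᵀ`** -/
theorem hit_three [Fintype F] (hs : IsSimpleGroup (PSp n F)) (h2 : (2 : F) ≠ 0)
    (hT : ∃ x : PSp n F, ¬ 2 ∣ orderOf x ∧ ∀ y : PSp n F, orderOf y ≠ 2 * orderOf x) {a b c : ℕ} (ha : a ≠ 0) (hb : b ≠ 0)
    (hn : a + b + c = n) (A : GL (Fin a) F) (B : GL (Fin b) F)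
    (hfree : ∀ i : ℕ, (A ^ i ≠ 1 ∨ B ^ i ≠ 1) → ∀ X : Matrix (Fin a) (Fin b) F,
      ((A ^ i : GL (Fin a) F) : Matrix (Fin a) (Fin a) F) * X * ((B ^ i : GL (Fin b) F) : Matrix (Fin b) (Fin b) F)ᵀ = X → X = 0)
    (hneg : B = 1 ∨ c ≠ 0) (ho : ∀ y : PSp n F, orderOf y ≠ 2 * Nat.lcm (orderOf A) (orderOf B)) :
    Hit.{u, v} 2 (PSp n F) := by
  have hodd : ¬ 2 ∣ Nat.card F := by
    intro h
    apply h2
    have : Fact (Nat.Prime 2) := ⟨Nat.prime_two⟩
    obtain ⟨p, hp⟩ := CharP.exists F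
    have hpp : p.Prime := CharP.char_is_prime F p
    obtain ⟨m, -, hm⟩ := FiniteField.card F p
    rw [Nat.card_eq_fintype_card, hm] at h
    have h3 := (Nat.prime_dvd_prime_iff_eq Nat.prime_two hpp).1 (Nat.prime_two.dvd_of_dvd_pow h)
    subst h3
    exact_mod_cast CharP.cast_eq_zero F 2
  have hV : ¬ 2 ∣ Nat.card (Matrix (Fin a) (Fin b) F) := by
    intro h
    rw [show Nat.card (Matrix (Fin a) (Fin b) F) = Nat.card (Fin a → Fin b → F) from rfl, Nat.card_fun, Nat.card_fun] at h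
    exact hodd (Nat.prime_two.dvd_of_dvd_pow (Nat.prime_two.dvd_of_dvd_pow h))
  let e : (Fin a ⊕ Fin b) ⊕ Fin c ≃ Fin n :=
    ((Equiv.sumCongr finSumFinEquiv (Equiv.refl _)).trans finSumFinEquiv).trans (finCongr hn)
  have h11 : (1 : F) ≠ -1 := by
    intro h
    apply h2
    linear_combination h
  -- the powers
  have hp : ∀ k, (d3 (γ := Fin c) A B : Matrix ((Fin a ⊕ Fin b) ⊕ Fin c) ((Fin a ⊕ Fin b) ⊕ Fin c) F) ^ k = 1 ↔
      A ^ k = 1 ∧ B ^ k = 1 := by
    intro k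
    rw [d3_pow]
    constructor
    · intro h
      rw [← fromBlocks_one, ← fromBlocks_one] at h
      have h3 := fromBlocks_inj.1 (fromBlocks_inj.1 h).1
      exact ⟨Units.ext h3.1, Units.ext h3.2.2.2⟩
    · rintro ⟨h3, h4⟩
      rw [h3, h4, Units.val_one, Units.val_one, fromBlocks_one, fromBlocks_one]
  have hp' : ∀ k, (d3 (γ := Fin c) A B : Matrix ((Fin a ⊕ Fin b) ⊕ Fin c) ((Fin a ⊕ Fin b) ⊕ Fin c) F) ^ k ≠ -1 := by
    intro k h
    rw [d3_pow] at h
    rcases hneg with h3 | h3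
    · have h4 := congrFun (congrFun h (Sum.inl (Sum.inr ⟨0, Nat.pos_of_ne_zero hb⟩)))
        (Sum.inl (Sum.inr ⟨0, Nat.pos_of_ne_zero hb⟩))
      rw [fromBlocks_apply₁₁, fromBlocks_apply₂₂, h3, one_pow, Units.val_one, one_apply_eq, neg_apply, one_apply_eq] at h4
      exact h11 h4
    · have h4 := congrFun (congrFun h (Sum.inr ⟨0, Nat.pos_of_ne_zero h3⟩)) (Sum.inr ⟨0, Nat.pos_of_ne_zero h3⟩)
      rw [fromBlocks_apply₂₂, one_apply_eq, neg_apply, one_apply_eq] at h4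
      exact h11 h4
  refine hit_of_sym' e hs h2 Nat.prime_two hT hV
    (fun X => fromBlocks (fromBlocks 0 X Xᵀ 0) 0 0 0) ?_ ?_ ?_ (d3 A B)
    (fun X => (A : Matrix (Fin a) (Fin a) F) * X * (B : Matrix (Fin b) (Fin b) F)ᵀ) ?_ ?_ ?_
  · intro X Y
    simp [fromBlocks_add]
  · refine ⟨Matrix.of fun _ _ => 1, fun h => ?_⟩
    have h4 := congrFun (congrFun h (Sum.inl (Sum.inl ⟨0, Nat.pos_of_ne_zero ha⟩)))
        (Sum.inl (Sum.inr ⟨0, Nat.pos_of_ne_zero hb⟩))
    rw [fromBlocks_apply₁₁, fromBlocks_apply₁₂, of_apply] at h4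
    exact one_ne_zero h4
  · intro X
    simp [fromBlocks_transpose]
  · intro X
    show fromBlocks (fromBlocks A.1 0 0 B.1) 0 0 1 * _ * (fromBlocks (fromBlocks A.1 0 0 B.1) 0 0 1)ᵀ = _
    simp [fromBlocks_multiply, fromBlocks_transpose, transpose_mul, Matrix.mul_assoc]
  · intro i h3 _ X h5
    rw [d3_pow] at h5
    have h6 : fromBlocks (fromBlocks ((A ^ i : GL (Fin a) F) : Matrix (Fin a) (Fin a) F) 0 0
        ((B ^ i : GL (Fin b) F) : Matrix (Fin b) (Fin b) F)) 0 0 (1 : Matrix (Fin c) (Fin c) F) *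
        fromBlocks (fromBlocks 0 X Xᵀ 0) 0 0 0 *
        (fromBlocks (fromBlocks ((A ^ i : GL (Fin a) F) : Matrix (Fin a) (Fin a) F) 0 0
        ((B ^ i : GL (Fin b) F) : Matrix (Fin b) (Fin b) F)) 0 0 (1 : Matrix (Fin c) (Fin c) F))ᵀ =
        fromBlocks (fromBlocks 0 (((A ^ i : GL (Fin a) F) : Matrix (Fin a) (Fin a) F) * X *
          ((B ^ i : GL (Fin b) F) : Matrix (Fin b) (Fin b) F)ᵀ) (((B ^ i : GL (Fin b) F) : Matrix (Fin b) (Fin b) F) * Xᵀ *
          ((A ^ i : GL (Fin a) F) : Matrix (Fin a) (Fin a) F)ᵀ) 0) 0 0 0 := by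
      generalize ((A ^ i : GL (Fin a) F) : Matrix (Fin a) (Fin a) F) = A1
      generalize ((B ^ i : GL (Fin b) F) : Matrix (Fin b) (Fin b) F) = B1
      simp [fromBlocks_multiply, fromBlocks_transpose, Matrix.mul_assoc]
    rw [h6] at h5
    have h7 := (fromBlocks_inj.1 (fromBlocks_inj.1 h5).1).2.1
    have h8 : A ^ i ≠ 1 ∨ B ^ i ≠ 1 := by
      by_contra h9
      push Not at h9
      exact h3 ((hp i).2 h9)
    rw [hfree i h8 X h7]
    simp
  · have h3 : orderOf (el (Units.map (reindexAlgEquiv F F e).toRingHom.toMonoidHom (d3 (γ := Fin c) A B))) =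
        orderOf (A, B) := by
      rw [orderOf_eq_orderOf_iff]
      intro k
      rw [el_pow_map, hp, Prod.pow_mk, Prod.mk_eq_one]
      exact ⟨fun h => h.resolve_right (hp' k), Or.inl⟩
    rw [h3, Prod.orderOf]
    exact ho

end Three

section Cases

variable {F : Type v} [Field F] [Fintype F] {n : ℕ}

theorem eq_zero_left {a b : ℕ} {A : Matrix (Fin a) (Fin a) F} {X : Matrix (Fin a) (Fin b) F} (hA : IsUnit (A - 1))
    (h : A * X = X) : X = 0 := by
  obtain ⟨u, hu⟩ := hA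
  have h1 : (u : Matrix (Fin a) (Fin a) F) * X = 0 := by rw [hu, Matrix.sub_mul, Matrix.one_mul, h, sub_self]
  calc X = ((u⁻¹ : (Matrix (Fin a) (Fin a) F)ˣ) : Matrix (Fin a) (Fin a) F) * ((u : Matrix (Fin a) (Fin a) F) * X) := by
        rw [← Matrix.mul_assoc, ← Units.val_mul, inv_mul_cancel, Units.val_one, Matrix.one_mul]
    _ = 0 := by rw [h1, Matrix.mul_zero]

theorem iter {a b : ℕ} {A : Matrix (Fin a) (Fin a) F} {B : Matrix (Fin b) (Fin b) F} {X : Matrix (Fin a) (Fin b) F}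
    (h : A * X * B = X) (k : ℕ) : A ^ k * X * B ^ k = X := by
  induction k with
  | zero => simp
  | succ k ih =>
    calc A ^ (k + 1) * X * B ^ (k + 1) = A ^ k * (A * X * B) * B ^ k := by
          rw [pow_succ, pow_succ']; simp only [Matrix.mul_assoc]
      _ = X := by rw [h, ih]

/-- the field is of odd order: `2 ≠ 0` -/
theorem two_ne {q : ℕ} (hF : Fintype.card F = q) (hq : Odd q) : (2 : F) ≠ 0 := by
  have := cast_ne (F := F) hF (N := 2) (Nat.coprime_two_left.2 hq)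
  exact_mod_cast this

/-- the case `q ≡ 1` modulo `4` -/
theorem case_one {q : ℕ} (hF : Fintype.card F = q) (hq : q % 4 = 1) (hn : Even n) (hn4 : 4 ≤ n)
    (hs : IsSimpleGroup (PSp n F)) (hT : ∃ x : PSp n F, ¬ 2 ∣ orderOf x ∧ ∀ y : PSp n F, orderOf y ≠ 2 * orderOf x) :
    Hit.{u, v} 2 (PSp n F) := by
  have hq1 : 1 < q := hF ▸ Fintype.one_lt_card
  obtain ⟨R, hR, hRo⟩ := Lib.Zsigmondy.exists_prime_orderOf (a := q) (n := n - 1) (by omega) (by omega) (by omega)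
    (by omega)
  obtain ⟨s, m, hm, hsm⟩ := Nat.exists_eq_pow_mul_and_not_dvd (n := q - 1) (by omega) 2 (by norm_num)
  have hs1 : 2 ^ s ∣ q - 1 := ⟨m, hsm⟩
  have hs2 : ¬ 2 ^ (s + 1) ∣ q - 1 := by
    rw [hsm, pow_succ]
    intro h
    exact hm (Nat.dvd_of_mul_dvd_mul_left (by positivity) h)
  have hs0 : 1 ≤ s := by
    by_contra h
    have : s = 0 := by omega
    subst this
    exact hs2 (by rw [zero_add, pow_one]; omega)
  have hR2 : R ≠ 2 := by
    rintro rfl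
    have hk : Odd (n - 1) := by obtain ⟨j, hj⟩ := hn; exact ⟨j - 1, by omega⟩
    exact prim_not hR hRo hk (by omega) (e := 1) (by rw [pow_one]; omega)
  have hRd : R ∣ q ^ (n - 1) - 1 := by
    rw [← ZMod.natCast_eq_zero_iff, Nat.cast_sub (Nat.one_le_pow _ _ (by omega)), Nat.cast_pow, ← hRo, pow_orderOf_eq_one]
    simp
  have hd : 2 ^ s * R ∣ Nat.card F ^ (n - 1) - 1 := by
    rw [Nat.card_eq_fintype_card, hF]
    refine Nat.Coprime.mul_dvd_of_dvd_of_dvd ?_ (hs1.trans (by simpa using Nat.sub_dvd_pow_sub_pow q 1 (n - 1))) hRd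
    exact Nat.Coprime.pow_left _ ((Nat.coprime_primes Nat.prime_two hR).2 hR2.symm)
  obtain ⟨A, hA, hA'⟩ := exists_mat (F := F) (k := n - 1) (by omega) hd
  refine hit_three hs (two_ne hF (⟨q / 2, by omega⟩)) hT (a := n - 1) (b := 1) (c := 0) (by omega) (by omega) (by omega)
    A 1 ?_ (Or.inl rfl) ?_
  · intro i hi X hX
    rw [one_pow, Units.val_one, transpose_one, Matrix.mul_one] at hX
    exact eq_zero_left (hA' i (by simpa using hi)) hX
  · intro y
    rw [orderOf_one, Nat.lcm_one_right, hA, ← mul_assoc, ← pow_succ']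
    exact no_one hF hq hn hn4 hR hRo hs0 hs1 hs2 y

/-- the case `q ≡ 3` modulo `4`, `n ≥ 6` -/
theorem case_three {q : ℕ} (hF : Fintype.card F = q) (hq : q % 4 = 3) (hn : Even n) (hn6 : 6 ≤ n)
    (hs : IsSimpleGroup (PSp n F)) (hT : ∃ x : PSp n F, ¬ 2 ∣ orderOf x ∧ ∀ y : PSp n F, orderOf y ≠ 2 * orderOf x) :
    Hit.{u, v} 2 (PSp n F) := by
  obtain ⟨R, hR, hRo⟩ := Lib.Zsigmondy.exists_prime_orderOf (a := q) (n := n - 3) (by omega)
    (by omega) (by intro h; obtain ⟨j, hj⟩ := hn; omega) (by omega)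
  have hk : Odd (n - 3) := by obtain ⟨j, hj⟩ := hn; exact ⟨j - 2, by omega⟩
  have hq3 : 3 ≤ q := by omega
  have hq2 : 2 ≤ q ^ 2 := by nlinarith
  obtain ⟨s, m, hm, hsm⟩ := Nat.exists_eq_pow_mul_and_not_dvd (n := q ^ 2 - 1) (by omega) 2 (by norm_num)
  have hs1 : 2 ^ s ∣ q ^ 2 - 1 := ⟨m, hsm⟩
  have hs2 : ¬ 2 ^ (s + 1) ∣ q ^ 2 - 1 := by
    rw [hsm, pow_succ]
    intro h
    exact hm (Nat.dvd_of_mul_dvd_mul_left (by positivity) h)
  have hs0 : 1 ≤ s := by
    by_contra h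
    have : s = 0 := by omega
    subst this
    apply hs2
    have h12 : q ^ 2 % 4 = 1 := by rw [Nat.pow_mod, hq]
    rw [zero_add, pow_one]; omega
  have hR2 : R ≠ 2 := by
    rintro rfl
    exact prim_not hR hRo hk (by omega) (e := 1) (by rw [pow_one]; omega)
  have hRd : R ∣ q ^ (n - 3) - 1 := by
    rw [← ZMod.natCast_eq_zero_iff, Nat.cast_sub (Nat.one_le_pow _ _ (by omega)), Nat.cast_pow, ← hRo, pow_orderOf_eq_one]
    simp
  have hcop : Nat.Coprime (2 ^ s) R := Nat.Coprime.pow_left _ ((Nat.coprime_primes Nat.prime_two hR).2 hR2.symm)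
  obtain ⟨A, hA, hA'⟩ := exists_mat (F := F) (k := n - 3) (by omega) (N := R)
    (by rw [Nat.card_eq_fintype_card, hF]; exact hRd)
  obtain ⟨B, hB, hB'⟩ := exists_mat (F := F) (k := 2) (by omega) (N := 2 ^ s)
    (by rw [Nat.card_eq_fintype_card, hF]; exact hs1)
  refine hit_three hs (two_ne hF (⟨q / 2, by omega⟩)) hT (a := n - 3) (b := 2) (c := 1) (by omega) (by omega) (by omega)
    A B ?_ (Or.inr one_ne_zero) ?_
  · intro i hi X hX
    by_cases h1 : A ^ i = 1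
    · have h2 : B ^ i ≠ 1 := hi.resolve_left (fun h => h h1)
      rw [h1, Units.val_one, Matrix.one_mul] at hX
      have h3 : ((B ^ i : GL (Fin 2) F) : Matrix (Fin 2) (Fin 2) F) * Xᵀ = Xᵀ := by
        have h4 := congrArg transpose hX
        rwa [transpose_mul, transpose_transpose] at h4
      have h4 := eq_zero_left (hB' i h2) h3
      rw [← transpose_transpose X, h4, transpose_zero]
    · have h2 := iter hX (2 ^ s)
      rw [← transpose_pow, ← Units.val_pow_eq_pow_val, ← Units.val_pow_eq_pow_val, ← pow_mul, ← pow_mul, mul_comm i,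
        pow_mul B, ← hB, pow_orderOf_eq_one, one_pow, Units.val_one, transpose_one, Matrix.mul_one] at h2
      refine eq_zero_left (hA' _ ?_) h2
      intro h3
      apply h1
      have h4 : A ^ (2 ^ s * i) = 1 := by rw [← hB]; exact h3
      have h5 := orderOf_dvd_of_pow_eq_one h4
      rw [hA] at h5
      have h6 := hcop.symm.dvd_of_dvd_mul_left h5
      rw [← hA] at h6
      exact orderOf_dvd_iff_pow_eq_one.1 h6
  · intro y
    rw [hA, hB, hcop.symm.lcm_eq_mul, mul_comm R, ← mul_assoc, ← pow_succ']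
    exact no_three hF hq hn hn6 hR hRo hs0 hs1 hs2 y

/-- the case `q ≡ 3` modulo `4`, `n = 4` -/
theorem case_four {q : ℕ} (hF : Fintype.card F = q) (hq : q % 4 = 3)
    (hs : IsSimpleGroup (PSp 4 F)) (hT : ∃ x : PSp 4 F, ¬ 2 ∣ orderOf x ∧ ∀ y : PSp 4 F, orderOf y ≠ 2 * orderOf x) :
    Hit.{u, v} 2 (PSp 4 F) := by
  classical
  have hq3 : 3 ≤ q := by omega
  have hq2 : 2 ≤ q ^ 2 := by nlinarith
  obtain ⟨s, m, hm, hsm⟩ := Nat.exists_eq_pow_mul_and_not_dvd (n := q ^ 2 - 1) (by omega) 2 (by norm_num)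
  have hs1 : 2 ^ s ∣ q ^ 2 - 1 := ⟨m, hsm⟩
  have hs2 : ¬ 2 ^ (s + 1) ∣ q ^ 2 - 1 := by
    rw [hsm, pow_succ]
    intro h
    exact hm (Nat.dvd_of_mul_dvd_mul_left (by positivity) h)
  have hs0 : 1 ≤ s := by
    by_contra h
    have : s = 0 := by omega
    subst this
    apply hs2
    have h12 : q ^ 2 % 4 = 1 := by rw [Nat.pow_mod, hq]
    rw [zero_add, pow_one]; omega
  have hoq : Odd q := ⟨q / 2, by omega⟩
  have hsq : 2 ^ (s + 1) ∣ q ^ 4 - 1 := by
    have h4 : q ^ 4 - 1 = (q ^ 2 - 1) * (q ^ 2 + 1) := by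
      have h6 : 1 ≤ q ^ 2 := Nat.one_le_pow _ _ (by omega)
      have h7 : 1 ≤ q ^ 4 := Nat.one_le_pow _ _ (by omega)
      zify [h6, h7]; ring
    rw [h4, pow_succ]
    exact Nat.mul_dvd_mul hs1 (by obtain ⟨j, hj⟩ := hoq.pow (n := 2); exact ⟨j + 1, by omega⟩)
  have h2 : (2 : F) ≠ 0 := two_ne hF hoq
  obtain ⟨K, _, _, hK, b, θ, hθ⟩ := exists_unit (F := F) (k := 4) (by norm_num) (N := 2 ^ (s + 1))
    (by rw [Nat.card_eq_fintype_card, hF]; exact hsq)
  have hfd : FiniteDimensional F K := Module.Finite.of_basis b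
  have hsep : Algebra.IsSeparable F K := inferInstance
  have hTu := H376.SpEmb.isUnit_trace (F := F) b
  have hTi : Algebra.traceMatrix F b * (Algebra.traceMatrix F b)⁻¹ = 1 := Matrix.mul_nonsing_inv _ hTu
  have hTi' : (Algebra.traceMatrix F b)⁻¹ * Algebra.traceMatrix F b = 1 := Matrix.nonsing_inv_mul _ hTu
  have hinj := Algebra.leftMulMatrix_injective b
  have hodd : ¬ 2 ∣ Nat.card K := by
    rw [H514.DP.card_ext b, Nat.card_eq_fintype_card, hF]
    intro h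
    have h3 := Nat.prime_two.dvd_of_dvd_pow h
    omega
  have hact : ∀ x y : K, Algebra.leftMulMatrix b x * (Algebra.leftMulMatrix b y * (Algebra.traceMatrix F b)⁻¹) *
      (Algebra.leftMulMatrix b x)ᵀ = Algebra.leftMulMatrix b (x ^ 2 * y) * (Algebra.traceMatrix F b)⁻¹ := by
    intro x y
    rw [Matrix.mul_assoc, Matrix.mul_assoc, ← H376.SpEmb.mul_inv_trace, ← Matrix.mul_assoc, ← Matrix.mul_assoc, ← map_mul,
      ← map_mul]
    congr 2
    ring
  set A : GL (Fin 4) F := Units.map (Algebra.leftMulMatrix b : K →* Matrix (Fin 4) (Fin 4) F) θ with hA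
  have hval : (A : Matrix (Fin 4) (Fin 4) F) = Algebra.leftMulMatrix b (θ : K) := rfl
  have hpow : ∀ i : ℕ, (A : Matrix (Fin 4) (Fin 4) F) ^ i = Algebra.leftMulMatrix b ((θ : K) ^ i) := by
    intro i
    rw [hval, map_pow]
  have h1iff : ∀ i : ℕ, ((A : Matrix (Fin 4) (Fin 4) F) ^ i = 1 ∨ (A : Matrix (Fin 4) (Fin 4) F) ^ i = -1) ↔
      θ ^ (2 * i) = 1 := by
    intro i
    rw [hpow, ← map_one (Algebra.leftMulMatrix b), ← map_neg, hinj.eq_iff, hinj.eq_iff, ← mul_self_eq_one_iff, ← pow_two,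
      ← pow_mul, mul_comm i, Units.ext_iff, Units.val_pow_eq_pow_val, Units.val_one]
  refine hit_of_sym hs h2 Nat.prime_two hT hodd
    (fun x : K => Algebra.leftMulMatrix b x * (Algebra.traceMatrix F b)⁻¹) ?_ ?_ ?_ A (fun x => (θ : K) ^ 2 * x) ?_ ?_ ?_
  · intro x y
    rw [map_add, Matrix.add_mul]
  · refine ⟨1, fun h => ?_⟩
    have h3 := congrArg (· * Algebra.traceMatrix F b) h
    simp only [Matrix.mul_assoc, hTi', Matrix.mul_one, Matrix.zero_mul] at h3
    rw [map_one] at h3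
    exact one_ne_zero h3
  · intro x
    rw [transpose_mul, transpose_nonsing_inv, H376.SpEmb.trace_transpose, ← H376.SpEmb.mul_inv_trace]
  · intro x
    rw [hval, hact]
  · intro i h3 h4 x h5
    rw [hpow, hact, ← pow_mul, mul_comm i] at h5
    have h6 := congrArg (· * Algebra.traceMatrix F b) h5
    simp only [Matrix.mul_assoc, hTi', Matrix.mul_one] at h6
    have h7 := hinj h6
    have h8 : (θ : K) ^ (2 * i) ≠ 1 := by
      intro h9
      have h10 := (h1iff i).2 (Units.ext (by rw [Units.val_pow_eq_pow_val, h9, Units.val_one]))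
      exact h10.elim h3 h4
    have h9 : ((θ : K) ^ (2 * i) - 1) * x = 0 := by rw [sub_mul, one_mul, h7, sub_self]
    rcases mul_eq_zero.1 h9 with h10 | h10
    · exact absurd (sub_eq_zero.1 h10) h8
    · rw [h10, map_zero, Matrix.zero_mul]
  · intro y
    have h3 : orderOf (el A) = 2 ^ s := by
      have h4 : ∀ k, el A ^ k = 1 ↔ 2 ^ s ∣ k := by
        intro k
        rw [el_pow_eq_one, h1iff, ← orderOf_dvd_iff_pow_eq_one, hθ, pow_succ']
        exact Nat.mul_dvd_mul_iff_left (by norm_num)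
      apply Nat.dvd_antisymm
      · exact orderOf_dvd_of_pow_eq_one ((h4 _).2 dvd_rfl)
      · exact (h4 _).1 (pow_orderOf_eq_one _)
    rw [h3, ← pow_succ']
    exact no_four hF hq hs0 hs1 hs2 y

/-- **Row X7 of S3442, `r = 2`**: `PSp_2n(F)`, `q` odd, `n ≥ 4` even. -/
theorem hit_psp_even_two (hq : Odd (Fintype.card F)) (hn4 : 4 ≤ n) (hn : Even n) : Hit.{u, v} 2 (PSp n F) := by
  have hq1 : 1 < Fintype.card F := Fintype.one_lt_card
  have hs : IsSimpleGroup (PSp n F) := S0270.result n (by omega) (by omega)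
  have hfin : Finite (PSp n F) := by
    have : Finite (symplecticGroup (Fin n) F) := inferInstance
    infer_instance
  by_cases hd : 2 ∣ Nat.card (PSp n F)
  swap
  · exact Hit.of_not_dvd hd
  have hT := hT_of_lf (H977.CycSp.lf_psp (F := F) (n := n) (by omega) (by omega)) Nat.prime_two hd
  have h4 : Fintype.card F % 4 = 1 ∨ Fintype.card F % 4 = 3 := by
    obtain ⟨j, hj⟩ := hq
    omega
  rcases h4 with h | h
  · exact case_one rfl h hn hn4 hs hT
  · by_cases h6 : 6 ≤ n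
    · exact case_three rfl h hn h6 hs hT
    · have : n = 4 := by obtain ⟨j, hj⟩ := hn; omega
      subst this
      exact case_four rfl h hs hT

end Cases

end Cfsg.Agent.H365.CV
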